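import Cfsg.Agent.Base
import Cfsg.Agent.Transfer.AbSylow
import Cfsg.Agent.Transfer.CentralExt
import Cfsg.Agent.Invol.StrEmb

/-!
# Perfect groups with an abelian Sylow `2`-subgroup of order eight

If `G` is perfect with an abelian Sylow `2`-subgroup `S` of order `8`, then `N(S)` is transitive on
`S - 1`; so `S` is elementary abelian, `G` has one class of involutions and
`|N(S) : C(S)|` is `7` or `21`.
-/

set_option autoImplicit false

open Subgroup

namespace CL.WAL

variable {G : Type*} [Group G]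

/-- The conjugates of `x` under the subgroup `L`. -/
def corb (L : Subgroup G) (x : G) : Set G := {y | ∃ n ∈ L, n * x * n⁻¹ = y}

theorem mem_corb_self (L : Subgroup G) (x : G) : x ∈ corb L x := ⟨1, L.one_mem, by simp⟩

theorem corb_eq_of_mem {L : Subgroup G} {x y : G} (h : y ∈ corb L x) : corb L y = corb L x := by
  obtain ⟨n, hn, rfl⟩ := h
  ext z
  constructor
  · rintro ⟨m, hm, rfl⟩
    exact ⟨m * n, L.mul_mem hm hn, by group⟩
  · rintro ⟨m, hm, rfl⟩
    exact ⟨m * n⁻¹, L.mul_mem hm (L.inv_mem hn), by group⟩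

theorem disjoint_corb {L : Subgroup G} {x y : G} (h : y ∉ corb L x) :
    Disjoint (corb L x) (corb L y) := by
  rw [Set.disjoint_left]
  intro z hx hy
  apply h
  rw [← corb_eq_of_mem hx, corb_eq_of_mem hy]
  exact mem_corb_self L y

theorem ncard_corb (L : Subgroup G) (x : G) :
    (corb L x).ncard = (centralizer ({x} : Set G)).relIndex L := by
  let _ : MulAction L G := MulAction.compHom G ((MulAut.conj : G →* MulAut G).comp L.subtype)
  have h1 : MulAction.orbit L x = corb L x := by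
    ext y
    exact ⟨fun ⟨n, hn⟩ => ⟨n, n.2, hn⟩, fun ⟨n, hn, h⟩ => ⟨⟨n, hn⟩, h⟩⟩
  have h2 : MulAction.stabilizer L x = (centralizer ({x} : Set G)).subgroupOf L := by
    ext n
    rw [MulAction.mem_stabilizer_iff, mem_subgroupOf, mem_centralizer_singleton_iff]
    exact mul_inv_eq_iff_eq_mul
  rw [← h1, ← MulAction.index_stabilizer, h2]; rfl

theorem ncard_corb_dvd [Finite G] (L : Subgroup G) (x : G) : (corb L x).ncard ∣ Nat.card L := by
  rw [ncard_corb]; exact relIndex_dvd_card _ _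

theorem odd_ncard_corb [Finite G] (S : Sylow 2 G) {L : Subgroup G} (hL : (S : Subgroup G) ≤ L)
    {x : G} (hx : ∀ s ∈ (S : Subgroup G), s * x = x * s) : Odd (corb L x).ncard := by
  have : Fact (Nat.Prime 2) := ⟨Nat.prime_two⟩
  rw [ncard_corb, ← inf_relIndex_right]
  have h1 : (S : Subgroup G) ≤ centralizer ({x} : Set G) ⊓ L :=
    le_inf (fun s hs => mem_centralizer_singleton_iff.2 (hx s hs)) hL
  have h2 : (centralizer ({x} : Set G) ⊓ L).relIndex L ∣ (S : Subgroup G).index :=
    (relIndex_dvd_index_of_le inf_le_right).trans (index_dvd_of_le h1)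
  have h3 := S.not_dvd_index
  rw [← Nat.not_even_iff_odd, even_iff_two_dvd]
  exact fun h => h3 (h.trans h2)

theorem corb_subset {S L : Subgroup G} (hL : L ≤ normalizer (S : Set G)) {x : G} (hx : x ∈ S)
    (h1 : x ≠ 1) : corb L x ⊆ (S : Set G) \ {1} := by
  rintro y ⟨n, hn, rfl⟩
  refine ⟨(mem_normalizer_iff.1 (hL hn) x).1 hx, fun h => h1 ?_⟩
  have h' : n * x * n⁻¹ = 1 := h
  calc x = n⁻¹ * (n * x * n⁻¹) * n := by group
    _ = 1 := by rw [h']; group

/-- In a perfect group no nontrivial element of an abelian Sylow subgroup is centralised by the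
normaliser. -/
theorem exists_not_fixed [Finite G] {p : ℕ} [Fact p.Prime] (hG : _root_.commutator G = ⊤)
    (S : Sylow p G) (hS : IsMulCommutative (S : Subgroup G)) {t : G} (ht : t ∈ (S : Subgroup G))
    (h1 : t ≠ 1) : ∃ n ∈ normalizer ((S : Subgroup G) : Set G), n * t * n⁻¹ ≠ t := by
  by_contra hcon
  push Not at hcon
  have h2 := CL.Focal.commutator_inf_eq_of_abelian_hall hS S.card_coprime_index
  rw [hG, top_inf_eq] at h2
  have h3 := CL.Focal.sylow_inf_centralizer_inf_commutator S hS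
  have h4 : t ∈ ((S : Subgroup G) ⊓ centralizer (normalizer (S : Set G) : Set G)) ⊓
      ⁅(S : Subgroup G), normalizer (S : Set G)⁆ := by
    refine ⟨⟨ht, ?_⟩, ?_⟩
    · intro n hn
      exact mul_inv_eq_iff_eq_mul.1 (hcon n hn)
    · have : t ∈ ⁅(S : Subgroup G), normalizer ((S : Subgroup G) : Set G)⁆ := h2 ▸ ht
      exact this
  rw [h3] at h4
  exact h1 h4

section Eight

variable [Finite G] (hG : _root_.commutator G = ⊤) (S : Sylow 2 G)
  (hS : IsMulCommutative (S : Subgroup G)) (h8 : Nat.card (S : Subgroup G) = 8)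

omit [Finite G] in
include hS in
theorem comm_of_mem {a b : G} (ha : a ∈ (S : Subgroup G)) (hb : b ∈ (S : Subgroup G)) :
    a * b = b * a :=
  congrArg Subtype.val (hS.is_comm.comm ⟨a, ha⟩ ⟨b, hb⟩)

omit [Finite G] in
include h8 in
theorem ncard_sharp : (((S : Subgroup G) : Set G) \ {1}).ncard = 7 := by
  rw [Set.ncard_sdiff_singleton_of_mem (S : Subgroup G).one_mem]
  have : (((S : Subgroup G) : Set G)).ncard = 8 := by rw [← h8]; rfl
  rw [this]

include hG hS h8 in
theorem corb_eq {t : G} (ht : t ∈ (S : Subgroup G)) (h1 : t ≠ 1) :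
    corb (normalizer ((S : Subgroup G) : Set G)) t = ((S : Subgroup G) : Set G) \ {1} := by
  have : Fact (Nat.Prime 2) := ⟨Nat.prime_two⟩
  set N := normalizer ((S : Subgroup G) : Set G) with hN
  set T := ((S : Subgroup G) : Set G) \ {1} with hT
  have hT7 : T.ncard = 7 := ncard_sharp S h8
  have hTf : T.Finite := Set.toFinite _
  have key : ∀ x ∈ T, Odd (corb N x).ncard ∧ 3 ≤ (corb N x).ncard ∧ corb N x ⊆ T := by
    rintro x ⟨hx, hx1⟩
    have hodd := odd_ncard_corb S (L := N) le_normalizer (fun s hs => comm_of_mem S hS hs hx)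
    refine ⟨hodd, ?_, corb_subset le_rfl hx hx1⟩
    obtain ⟨n, hn, hne⟩ := exists_not_fixed hG S hS hx hx1
    have h2 : 1 < (corb N x).ncard :=
      (Set.one_lt_ncard (Set.toFinite _)).2 ⟨_, ⟨n, hn, rfl⟩, x, mem_corb_self _ _, hne⟩
    obtain ⟨k, hk⟩ := hodd
    omega
  have htT : t ∈ T := ⟨ht, h1⟩
  obtain ⟨o1, l1, s1⟩ := key t htT
  by_contra hne
  obtain ⟨u, huT, hu⟩ : ∃ u ∈ T, u ∉ corb N t := by
    by_contra hcon
    push Not at hcon
    exact hne (Set.Subset.antisymm s1 hcon)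
  obtain ⟨o2, l2, s2⟩ := key u huT
  have d12 := disjoint_corb hu
  have c12 := Set.ncard_union_eq d12 (Set.toFinite _) (Set.toFinite _)
  by_cases hcov : T ⊆ corb N t ∪ corb N u
  · have : corb N t ∪ corb N u = T := Set.Subset.antisymm (Set.union_subset s1 s2) hcov
    rw [this, hT7] at c12
    obtain ⟨a, ha⟩ := o1
    obtain ⟨b, hb⟩ := o2
    omega
  · obtain ⟨r, hrT, hr⟩ := Set.not_subset.1 hcov
    obtain ⟨-, l3, s3⟩ := key r hrT
    rw [Set.mem_union, not_or] at hr
    have d3 : Disjoint (corb N t ∪ corb N u) (corb N r) :=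
      Set.disjoint_union_left.2 ⟨disjoint_corb hr.1, disjoint_corb hr.2⟩
    have c3 := Set.ncard_union_eq d3 (Set.toFinite _) (Set.toFinite _)
    have := Set.ncard_le_ncard (Set.union_subset (Set.union_subset s1 s2) s3) hTf
    omega

include hG hS h8 in
/-- `N(S)` is transitive on the nonidentity elements of `S`. -/
theorem eight_transitive {u v : G} (hu : u ∈ (S : Subgroup G)) (hv : v ∈ (S : Subgroup G))
    (hu1 : u ≠ 1) (hv1 : v ≠ 1) :
    ∃ n ∈ normalizer ((S : Subgroup G) : Set G), n * u * n⁻¹ = v := by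
  have : v ∈ corb (normalizer ((S : Subgroup G) : Set G)) u := by
    rw [corb_eq hG S hS h8 hu hu1]; exact ⟨hv, hv1⟩
  exact this

include hG hS h8 in
theorem eight_relIndex {t : G} (ht : t ∈ (S : Subgroup G)) (h1 : t ≠ 1) :
    (centralizer ({t} : Set G)).relIndex (normalizer ((S : Subgroup G) : Set G)) = 7 := by
  rw [← ncard_corb, corb_eq hG S hS h8 ht h1, ncard_sharp S h8]

include h8 in
theorem exists_involution_mem : ∃ t ∈ (S : Subgroup G), orderOf t = 2 :=
  (CL.Invol.even_card_iff_exists_involution _).1 (by rw [h8]; decide)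

include hG hS h8 in
theorem seven_dvd_card : 7 ∣ Nat.card G := by
  obtain ⟨t, ht, h2⟩ := exists_involution_mem S h8
  have h1 : t ≠ 1 := by rintro rfl; simp at h2
  rw [← eight_relIndex hG S hS h8 ht h1]
  exact (relIndex_dvd_card _ _).trans (card_subgroup_dvd_card _)

include hG hS h8 in
/-- `S` is elementary abelian. -/
theorem eight_mul_self {s : G} (hs : s ∈ (S : Subgroup G)) : s * s = 1 := by
  by_cases h1 : s = 1
  · rw [h1, one_mul]
  obtain ⟨t, ht, h2⟩ := exists_involution_mem S h8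
  have ht1 : t ≠ 1 := by rintro rfl; simp at h2
  obtain ⟨n, -, rfl⟩ := eight_transitive hG S hS h8 ht hs ht1 h1
  have : t * t = 1 := by rw [← pow_two, ← h2, pow_orderOf_eq_one]
  calc n * t * n⁻¹ * (n * t * n⁻¹) = n * (t * t) * n⁻¹ := by group
    _ = 1 := by rw [this]; group

include hG hS h8 in
/-- One class of involutions. -/
theorem eight_conj {u v : G} (hu : u * u = 1) (hu1 : u ≠ 1) (hv : v * v = 1) (hv1 : v ≠ 1) :
    ∃ g : G, g * u * g⁻¹ = v := by
  obtain ⟨a, ha⟩ := CL.Invol.exists_conj_mem_sylow hu S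
  obtain ⟨b, hb⟩ := CL.Invol.exists_conj_mem_sylow hv S
  have key : ∀ x c : G, x ≠ 1 → c * x * c⁻¹ ≠ 1 := fun x c hx h => hx (by
    calc x = c⁻¹ * (c * x * c⁻¹) * c := by group
      _ = 1 := by rw [h]; group)
  obtain ⟨n, -, hn⟩ := eight_transitive hG S hS h8 ha hb (key u a hu1) (key v b hv1)
  refine ⟨b⁻¹ * n * a, ?_⟩
  calc b⁻¹ * n * a * u * (b⁻¹ * n * a)⁻¹ = b⁻¹ * (n * (a * u * a⁻¹) * n⁻¹) * b := by group
    _ = v := by rw [hn]; group

include hG hS h8 in
theorem eight_isConj {u v : G} (hu : orderOf u = 2) (hv : orderOf v = 2) : IsConj u v := by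
  refine isConj_iff.2 (eight_conj hG S hS h8 ?_ ?_ ?_ ?_)
  · rw [← pow_two, ← hu, pow_orderOf_eq_one]
  · rintro rfl; simp at hu
  · rw [← pow_two, ← hv, pow_orderOf_eq_one]
  · rintro rfl; simp at hv

include hG hS h8 in
/-- An element of `N(S)` centralising two distinct involutions of `S` centralises `S`. -/
theorem centralizes_of_two {t u n : G} (ht : t ∈ (S : Subgroup G)) (hu : u ∈ (S : Subgroup G))
    (ht1 : t ≠ 1) (hu1 : u ≠ 1) (htu : t ≠ u) (hn : n ∈ normalizer ((S : Subgroup G) : Set G))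
    (hnt : n * t * n⁻¹ = t) (hnu : n * u * n⁻¹ = u) :
    n ∈ centralizer ((S : Subgroup G) : Set G) := by
  have hsq := fun s (hs : s ∈ (S : Subgroup G)) => eight_mul_self hG S hS h8 hs
  have hc := fun a b (ha : a ∈ (S : Subgroup G)) (hb : b ∈ (S : Subgroup G)) =>
    comm_of_mem S hS ha hb
  set L := normalizer ((S : Subgroup G) : Set G) ⊓ centralizer ({t, u} : Set G) with hL
  have hSL : (S : Subgroup G) ≤ L := le_inf le_normalizer (fun s hs x hx => by
    rcases hx with rfl | rfl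
    exacts [hc _ _ ht hs, hc _ _ hu hs])
  have hnL : n ∈ L := ⟨hn, fun x hx => by
    rcases hx with rfl | rfl
    exacts [(mul_inv_eq_iff_eq_mul.1 hnt).symm, (mul_inv_eq_iff_eq_mul.1 hnu).symm]⟩
  have hfix : ∀ m ∈ L, m * t * m⁻¹ = t ∧ m * u * m⁻¹ = u := fun m hm =>
    ⟨mul_inv_eq_iff_eq_mul.2 (hm.2 t (by simp)).symm,
      mul_inv_eq_iff_eq_mul.2 (hm.2 u (by simp)).symm⟩
  have htu1 : t * u ≠ 1 := fun h => htu (by
    rw [← inv_eq_of_mul_eq_one_right (hsq u hu)]; exact eq_inv_of_mul_eq_one_left h)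
  -- the set `V = {1, t, u, tu}` is fixed pointwise by `L`
  set V : Set G := {1, t, u, t * u} with hV
  have hVfix : ∀ m ∈ L, ∀ v ∈ V, m * v * m⁻¹ = v := by
    intro m hm v hv
    rcases hv with rfl | rfl | rfl | rfl
    · group
    · exact (hfix m hm).1
    · exact (hfix m hm).2
    · calc m * (t * u) * m⁻¹ = (m * t * m⁻¹) * (m * u * m⁻¹) := by group
        _ = t * u := by rw [(hfix m hm).1, (hfix m hm).2]
  have hVS : V ⊆ (S : Subgroup G) := by
    intro v hv
    rcases hv with rfl | rfl | rfl | rfl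
    exacts [(S : Subgroup G).one_mem, ht, hu, (S : Subgroup G).mul_mem ht hu]
  have hV4 : V.ncard = 4 := by
    rw [hV, Set.ncard_insert_of_notMem, Set.ncard_insert_of_notMem, Set.ncard_pair]
    · intro h; exact ht1 (by simpa using h)
    · rintro (h | h)
      · exact htu h
      · exact hu1 (by simpa using h)
    · rintro (h | h | h)
      exacts [ht1 h.symm, hu1 h.symm, htu1 h.symm]
  have hS8 : (((S : Subgroup G) : Set G)).ncard = 8 := by rw [← h8]; rfl
  have hW : (((S : Subgroup G) : Set G) \ V).ncard = 4 := by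
    rw [Set.ncard_sdiff hVS (Set.toFinite _), hS8, hV4]
  have hVt : ∀ v ∈ V, t * v ∈ V := by
    intro v hv
    rcases hv with rfl | rfl | rfl | rfl
    · simp [hV]
    · simp [hV, hsq _ ht]
    · simp [hV]
    · simp [hV, ← mul_assoc, hsq _ ht]
  have hVmul : ∀ y ∈ V, ∀ v ∈ V, y * v ∈ V := by
    intro y h v hv
    rcases hv with rfl | rfl | rfl | rfl
    · simpa using h
    · rw [hc _ _ (hVS h) ht]; exact hVt y h
    · rcases h with rfl | rfl | rfl | rfl
      · simp [hV]
      · simp [hV]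
      · simp [hV, hsq _ hu]
      · simp [hV, mul_assoc, hsq _ hu]
    · rcases h with rfl | rfl | rfl | rfl
      · simp [hV]
      · simp [hV, ← mul_assoc, hsq _ ht]
      · rw [← mul_assoc, hc _ _ hu ht, mul_assoc, hsq _ hu]; simp [hV]
      · rw [hsq _ ((S : Subgroup G).mul_mem ht hu)]; simp [hV]
  intro s hs
  by_contra hne
  have hsV : s ∉ V := fun h => hne (mul_inv_eq_iff_eq_mul.1 (hVfix n hnL s h)).symm
  have hsub : ∀ r ∈ ((S : Subgroup G) : Set G) \ V,
      corb L r ⊆ ((S : Subgroup G) : Set G) \ V := by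
    rintro r ⟨hr, hrV⟩ y ⟨m, hm, rfl⟩
    refine ⟨(mem_normalizer_iff.1 hm.1 r).1 hr, fun h => hrV ?_⟩
    have h2 := hVfix m⁻¹ (L.inv_mem hm) _ h
    have h3 : r = m * r * m⁻¹ := by rw [← h2]; group
    rw [h3]; exact h
  have hbig : ∀ r ∈ (S : Subgroup G), n * r * n⁻¹ ≠ r → 3 ≤ (corb L r).ncard := by
    intro r hr hne'
    have h2 : 1 < (corb L r).ncard :=
      (Set.one_lt_ncard (Set.toFinite _)).2 ⟨_, ⟨n, hnL, rfl⟩, r, mem_corb_self _ _, hne'⟩
    obtain ⟨k, hk⟩ := odd_ncard_corb S hSL (x := r) (fun s hs => hc _ _ hs hr)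
    omega
  have hne1 : n * s * n⁻¹ ≠ s := fun h => hne (mul_inv_eq_iff_eq_mul.1 h).symm
  have hall : ∀ r ∈ ((S : Subgroup G) : Set G) \ V, n * r * n⁻¹ ≠ r := by
    rintro r ⟨hr, hrV⟩ hfr
    -- `r V` is the complement of `V`
    have himg : (fun v => r * v) '' V = ((S : Subgroup G) : Set G) \ V := by
      apply Set.eq_of_subset_of_ncard_le _ _ (Set.toFinite _)
      · rintro _ ⟨v, hv, rfl⟩
        refine ⟨(S : Subgroup G).mul_mem hr (hVS hv), fun h => hrV ?_⟩
        have h1 : r = (r * v) * v := by rw [mul_assoc, hsq v (hVS hv), mul_one]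
        rw [h1]
        exact hVmul _ h v hv
      · rw [Set.ncard_image_of_injective _ (mul_right_injective r), hW, hV4]
    have : s ∈ (fun v => r * v) '' V := by rw [himg]; exact ⟨hs, hsV⟩
    obtain ⟨v, hv, rfl⟩ := this
    apply hne1
    calc n * (r * v) * n⁻¹ = (n * r * n⁻¹) * (n * v * n⁻¹) := by group
      _ = r * v := by rw [hfr, hVfix n hnL v hv]
  have hsW : s ∈ ((S : Subgroup G) : Set G) \ V := ⟨hs, hsV⟩
  have l1 := hbig s hs hne1
  obtain ⟨k, hk⟩ := odd_ncard_corb S hSL (x := s) (fun a ha => hc _ _ ha hs)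
  obtain ⟨r, hrW, hr⟩ : ∃ r ∈ ((S : Subgroup G) : Set G) \ V, r ∉ corb L s := by
    by_contra hcon
    push Not at hcon
    have := Set.Subset.antisymm (hsub s hsW) hcon
    rw [this, hW] at hk
    omega
  have l2 := hbig r hrW.1 (hall r hrW)
  have c12 := Set.ncard_union_eq (disjoint_corb hr) (Set.toFinite _) (Set.toFinite _)
  have := Set.ncard_le_ncard (Set.union_subset (hsub s hsW) (hsub r hrW)) (Set.toFinite _)
  omega

include hG hS h8 in
/-- `|N(S) : C(S)|` is `7` or `21`; more precisely `|N(S) ∩ C(t) : C(S)|` is `1` or `3`. -/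
theorem eight_relIndex_stab {t : G} (ht : t ∈ (S : Subgroup G)) (ht1 : t ≠ 1) :
    (centralizer ((S : Subgroup G) : Set G)).relIndex
        (centralizer ({t} : Set G) ⊓ normalizer ((S : Subgroup G) : Set G)) = 1 ∨
      (centralizer ((S : Subgroup G) : Set G)).relIndex
        (centralizer ({t} : Set G) ⊓ normalizer ((S : Subgroup G) : Set G)) = 3 := by
  have hsq := fun s (hs : s ∈ (S : Subgroup G)) => eight_mul_self hG S hS h8 hs
  have hc := fun a b (ha : a ∈ (S : Subgroup G)) (hb : b ∈ (S : Subgroup G)) =>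
    comm_of_mem S hS ha hb
  set L := centralizer ({t} : Set G) ⊓ normalizer ((S : Subgroup G) : Set G) with hL
  have hSL : (S : Subgroup G) ≤ L :=
    le_inf (fun s hs => mem_centralizer_singleton_iff.2 (hc _ _ hs ht)) le_normalizer
  set T := (((S : Subgroup G) : Set G) \ {1}) \ {t} with hT
  have hT6 : T.ncard = 6 := by
    have h : t ∈ ((S : Subgroup G) : Set G) \ {1} := ⟨ht, ht1⟩
    rw [hT, Set.ncard_sdiff_singleton_of_mem h, ncard_sharp S h8]
  have hfix : ∀ m ∈ L, m * t * m⁻¹ = t := fun m hm =>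
    mul_inv_eq_iff_eq_mul.2 (mem_centralizer_singleton_iff.1 hm.1)
  have hsub : ∀ r ∈ T, corb L r ⊆ T := by
    rintro r ⟨⟨hr, hr1⟩, hrt⟩ y hy
    refine ⟨corb_subset inf_le_right hr hr1 hy, fun h => hrt ?_⟩
    obtain ⟨m, hm, rfl⟩ := hy
    have h' : m * r * m⁻¹ = t := h
    have h2 := hfix m⁻¹ (L.inv_mem hm)
    show r = t
    rw [← h2, ← h']; group
  have hidx : ∀ r ∈ T, (centralizer ((S : Subgroup G) : Set G)).relIndex L = (corb L r).ncard := by
    rintro r ⟨⟨hr, hr1⟩, hrt⟩
    rw [ncard_corb, ← inf_relIndex_right, ← inf_relIndex_right (centralizer ({r} : Set G))]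
    congr 1
    refine le_antisymm (inf_le_inf_right _ (centralizer_le (Set.singleton_subset_iff.2 hr))) ?_
    rintro n ⟨hnr, hn⟩
    exact ⟨centralizes_of_two hG S hS h8 ht hr ht1 hr1 (Ne.symm hrt) hn.2 (hfix n hn)
      (mul_inv_eq_iff_eq_mul.2 (mem_centralizer_singleton_iff.1 hnr)), hn⟩
  obtain ⟨u, huT⟩ : T.Nonempty := Set.nonempty_of_ncard_ne_zero (by omega)
  obtain ⟨k, hk⟩ := odd_ncard_corb S hSL (x := u) (fun a ha => hc _ _ ha huT.1.1)
  obtain ⟨r, hrT, hr⟩ : ∃ r ∈ T, r ∉ corb L u := by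
    by_contra hcon
    push Not at hcon
    have := Set.Subset.antisymm (hsub u huT) hcon
    rw [this, hT6] at hk
    omega
  have c12 := Set.ncard_union_eq (disjoint_corb hr) (Set.toFinite _) (Set.toFinite _)
  have := Set.ncard_le_ncard (Set.union_subset (hsub u huT) (hsub r hrT)) (Set.toFinite _)
  have e1 := hidx u huT
  have e2 := hidx r hrT
  omega

include hG hS h8 in
theorem eight_relIndex_centralizer :
    (centralizer ((S : Subgroup G) : Set G)).relIndex (normalizer ((S : Subgroup G) : Set G)) = 7 ∨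
      (centralizer ((S : Subgroup G) : Set G)).relIndex
        (normalizer ((S : Subgroup G) : Set G)) = 21 := by
  obtain ⟨t, ht, h2⟩ := exists_involution_mem S h8
  have h1 : t ≠ 1 := by rintro rfl; simp at h2
  have hle : centralizer ((S : Subgroup G) : Set G) ≤
      centralizer ({t} : Set G) ⊓ normalizer ((S : Subgroup G) : Set G) :=
    le_inf (centralizer_le (Set.singleton_subset_iff.2 ht)) (centralizer_le_normalizer _)
  have hm := relIndex_mul_relIndex _ _ _ hle
    (inf_le_right : _ ≤ normalizer ((S : Subgroup G) : Set G))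
  rw [inf_relIndex_right, eight_relIndex hG S hS h8 ht h1] at hm
  rcases eight_relIndex_stab hG S hS h8 ht h1 with h | h <;> rw [h] at hm <;> omega

end Eight

end CL.WAL
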