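import Cfsg.Agent.Base
import Cfsg.Agent.Small.Eight
import Cfsg.Agent.Invol.KleinSylow

/-!
Local analysis in groups whose involution centralisers look like `Z₂ × PSL₂(q)`, `q ≡ ±3 (mod 8)`:
abstract set-up and the fusion lemmas in the centraliser of an element of the torus `R = O(C(V))`.
-/

set_option autoImplicit false

namespace CL.WAL

open Subgroup

variable {G : Type*} [Group G]

/-- The structure of the normaliser `(V × R) : ⟨u, ρ⟩` of a four-group `V`. -/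
structure Tor (k : ℕ) (V R : Subgroup G) (u ρ : G) : Prop where
  klein : IsKleinFour V
  cyc : IsCyclic R
  card_R : Nat.card R = k
  comm : ∀ v ∈ V, ∀ r ∈ R, Commute v r
  dich : ∀ g : G, (∀ v ∈ V, Commute g v) →
    (∃ v ∈ V, ∃ r ∈ R, g = v * r) ∨ (g * g = 1 ∧ ∀ r ∈ R, g * r * g⁻¹ = r⁻¹)
  cent : ∀ v ∈ V, v ≠ 1 → ∀ r ∈ R, r ≠ 1 → ∀ g : G, Commute g v → Commute g r →
    ∃ v' ∈ V, ∃ r' ∈ R, g = v' * r'
  u_ord : orderOf u = 2
  u_notMem : u ∉ V
  u_comm : ∀ v ∈ V, Commute u v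
  u_inv : ∀ r ∈ R, u * r * u⁻¹ = r⁻¹
  rho_ord : orderOf ρ = 3
  rho_u : Commute ρ u
  rho_norm : ∀ v ∈ V, ρ * v * ρ⁻¹ ∈ V
  rho_not : ∃ v ∈ V, ¬ Commute ρ v

/-- The abstract hypotheses satisfied by a simple group with abelian Sylow `2`-subgroups and an
involution centraliser `Z₂ × PSL₂(q)`, `q ≡ ε (mod 4)`, `q - ε = 4 k`. -/
structure JT (G : Type*) [Group G] (k : ℕ) : Prop where
  odd : Odd k
  conj : ∀ a b : G, orderOf a = 2 → orderOf b = 2 → IsConj a b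
  el : ∀ P : Subgroup G, IsPGroup 2 P → ∀ a ∈ P, a * a = 1
  tor : ∀ V : Subgroup G, IsKleinFour V → ∃ R u ρ, Tor k V R u ρ
  fix : ∀ v s g : G, orderOf v = 2 → Commute g v → Commute s v → g * s * g⁻¹ ≠ v * s
  card : ∀ w : G, orderOf w = 2 →
    ∃ n, n.Coprime k ∧ Nat.card (centralizer ({w} : Set G)) = 8 * k * n
  three : ¬ 3 ∣ k → ∀ w x : G, orderOf w = 2 → orderOf x = 3 → Commute w x →
    ∃ m, Nat.card (centralizer ({w} : Set G) ⊓ centralizer ({x} : Set G) : Subgroup G) = 2 * m ∧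
      m ^ 2 ≡ 1 [MOD k] ∧ Odd m

theorem commute_conj {a b : G} (h : Commute a b) (g : G) :
    Commute (g * a * g⁻¹) (g * b * g⁻¹) := by
  simpa using h.map (MulAut.conj g)

theorem commute_of_conj {a b g : G} (h : Commute (g * a * g⁻¹) (g * b * g⁻¹)) : Commute a b := by
  simpa [mul_assoc] using commute_conj h g⁻¹

theorem conj_ne_one {a : G} (h : a ≠ 1) (g : G) : g * a * g⁻¹ ≠ 1 := fun h' => h (by
  rw [show a = g⁻¹ * (g * a * g⁻¹) * g by group, h']; group)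

theorem conj_mul_self {a : G} (h : a * a = 1) (g : G) : g * a * g⁻¹ * (g * a * g⁻¹) = 1 := by
  rw [show g * a * g⁻¹ * (g * a * g⁻¹) = g * (a * a) * g⁻¹ by group, h]; group

theorem commute_iff_conj {a b : G} : Commute a b ↔ a * b * a⁻¹ = b :=
  (commute_iff_eq a b).trans mul_inv_eq_iff_eq_mul.symm

theorem mem_cent {a b : G} : a ∈ centralizer ({b} : Set G) ↔ Commute a b :=
  mem_centralizer_singleton_iff

theorem mem_norm_zpowers [Finite G] {x g : G} (h : g * x * g⁻¹ ∈ zpowers x) :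
    g ∈ normalizer ((zpowers x : Subgroup G) : Set G) := by
  apply mem_normalizer_fintype
  rintro _ ⟨k, rfl⟩
  change g * x ^ k * g⁻¹ ∈ zpowers x
  rw [← conj_zpow]
  exact zpow_mem h k

theorem eq_one_of_odd {x : G} (h : Odd (orderOf x)) (h2 : x * x = 1) : x = 1 := by
  rw [← orderOf_eq_one_iff]
  exact Nat.eq_one_of_dvd_coprimes (Nat.coprime_two_right.mpr h) dvd_rfl
    (orderOf_dvd_of_pow_eq_one (by rw [pow_two, h2]))

/-- An element of odd order does not invert an element of odd order. -/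
theorem eq_one_of_inverts {g r : G} (hg : Odd (orderOf g)) (hr : Odd (orderOf r))
    (h : g * r * g⁻¹ = r⁻¹) : r = 1 := by
  obtain ⟨m, hm⟩ := hg
  have h1 : Commute (g ^ 2) r := by
    rw [commute_iff_conj]
    calc g ^ 2 * r * (g ^ 2)⁻¹ = g * (g * r * g⁻¹) * g⁻¹ := by rw [pow_two]; group
      _ = (g * r * g⁻¹)⁻¹ := by conv_lhs => rw [h]
                                group
      _ = r := by rw [h, inv_inv]
  have h2 : g = (g ^ 2) ^ (m + 1) := by
    rw [← pow_mul, show 2 * (m + 1) = orderOf g + 1 by omega, pow_succ, pow_orderOf_eq_one, one_mul]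
  rw [commute_iff_conj.mp (h2 ▸ h1.pow_left (m + 1))] at h
  exact eq_one_of_odd hr (eq_inv_iff_mul_eq_one.mp h)

variable [Finite G] {k : ℕ} (J : JT G k) {V R : Subgroup G} {u ρ : G} (T : Tor k V R u ρ)

namespace Tor

omit [Finite G] in
include T in
theorem sq {v : G} (hv : v ∈ V) : v * v = 1 := Invol.klein_mul_self T.klein hv

omit [Finite G] in
include T in
theorem commV {v w : G} (hv : v ∈ V) (hw : w ∈ V) : Commute v w := Invol.klein_comm T.klein hv hw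

omit [Finite G] in
include T in
theorem ordV {v : G} (hv : v ∈ V) (h1 : v ≠ 1) : orderOf v = 2 :=
  Invol.orderOf_two_of_mul_self h1 (T.sq hv)

include T in
theorem commR {r s : G} (hr : r ∈ R) (hs : s ∈ R) : Commute r s := by
  have := T.cyc
  exact congrArg Subtype.val (IsCyclic.isMulCommutative.is_comm.comm (⟨r, hr⟩ : R) ⟨s, hs⟩)

include T in
theorem ordR {r : G} (hr : r ∈ R) : orderOf r ∣ k := T.card_R ▸ SG.orderOf_dvd_card_of_mem hr

include J T in
theorem oddR {r : G} (hr : r ∈ R) : Odd (orderOf r) := J.odd.of_dvd_nat (T.ordR hr)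

include J T in
theorem memV {g : G} (h : ∃ v ∈ V, ∃ r ∈ R, g = v * r) (hg : g * g = 1) : g ∈ V := by
  obtain ⟨v, hv, r, hr, rfl⟩ := h
  have h1 : r = 1 := eq_one_of_odd (T.oddR J hr) (by
    rwa [mul_assoc, ← mul_assoc r, ← (T.comm v hv r hr).eq, mul_assoc, ← mul_assoc, T.sq hv,
      one_mul] at hg)
  rwa [h1, mul_one]

include J T in
theorem memR' {g : G} (h : ∃ v ∈ V, ∃ r ∈ R, g = v * r) (hg : Odd (orderOf g)) : g ∈ R := by
  obtain ⟨v, hv, r, hr, rfl⟩ := h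
  have h1 : v = 1 := by
    refine eq_one_of_odd ?_ (T.sq hv)
    have h2 := ((T.comm v hv r hr).mul_left (Commute.refl r)).inv_right.orderOf_mul_dvd_mul_orderOf
    rw [mul_inv_cancel_right, orderOf_inv] at h2
    exact (hg.mul (T.oddR J hr)).of_dvd_nat h2
  rwa [h1, one_mul]

include J T in
theorem memR {g : G} (h : ∀ v ∈ V, Commute g v) (hg : Odd (orderOf g)) : g ∈ R := by
  rcases T.dich g h with h1 | h1
  · exact T.memR' J h1 hg
  · rw [eq_one_of_odd hg h1.1]; exact R.one_mem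

omit [Finite G] in
include T in
theorem comm_of_mem {g : G} (h : ∃ v ∈ V, ∃ r ∈ R, g = v * r) {w : G} (hw : w ∈ V) :
    Commute g w := by
  obtain ⟨v, hv, r, hr, rfl⟩ := h
  exact (T.commV hv hw).mul_left (T.comm w hw r hr).symm

include T in
theorem comm_of_mem' {g : G} (h : ∃ v ∈ V, ∃ r ∈ R, g = v * r) {w : G} (hw : w ∈ R) :
    Commute g w := by
  obtain ⟨v, hv, r, hr, rfl⟩ := h
  exact (T.comm v hv w hw).mul_left (T.commR hr hw)

theorem norm_inv {g : G} (hg : ∀ v ∈ V, g * v * g⁻¹ ∈ V) : ∀ v ∈ V, g⁻¹ * v * g⁻¹⁻¹ ∈ V :=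
  fun v hv => (mem_normalizer_iff.mp (inv_mem (mem_normalizer_fintype hg)) v).mp hv

include J T in
theorem conjR {g : G} (hg : ∀ v ∈ V, g * v * g⁻¹ ∈ V) {r : G} (hr : r ∈ R) :
    g * r * g⁻¹ ∈ R := by
  refine T.memR J (fun v hv => ?_) (by rw [Invol.orderOf_conj]; exact T.oddR J hr)
  have := commute_conj (T.comm _ (norm_inv hg v hv) r hr).symm g
  simpa [mul_assoc] using this

include J T in
/-- An element mapping an involution of `V` into `V` and an element of `R` into `R` normalises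
`V`. -/
theorem norm_of_conj {g r v : G} (hr : r ∈ R) (hr1 : r ≠ 1) (hgr : g * r * g⁻¹ ∈ R) (hv : v ∈ V)
    (hv1 : v ≠ 1) (hgv : g * v * g⁻¹ ∈ V) : ∀ y ∈ V, g * y * g⁻¹ ∈ V := fun y hy =>
  T.memV J (T.cent _ hgv (conj_ne_one hv1 g) _ hgr (conj_ne_one hr1 g) _
    (commute_conj (T.commV hy hv) g) (commute_conj (T.comm y hy r hr) g))
    (conj_mul_self (T.sq hy) g)

omit [Finite G] in
include J T in
theorem cent_of_fix {g v : G} (hg : ∀ y ∈ V, g * y * g⁻¹ ∈ V) (hv : v ∈ V) (hv1 : v ≠ 1)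
    (hgv : Commute g v) : ∀ y ∈ V, Commute g y := by
  intro y hy
  by_contra hne
  have h1 : y ≠ 1 := by rintro rfl; exact hne (Commute.one_right g)
  have h2 : v ≠ y := by rintro rfl; exact hne hgv
  refine J.fix v y g (T.ordV hv hv1) hgv (T.commV hy hv)
    (Invol.klein_eq_mul T.klein hv hy (hg y hy) hv1 h1 h2 (conj_ne_one h1 g) (fun h3 => h2 ?_)
      (fun h3 => hne (commute_iff_conj.mpr h3)))
  rw [← commute_iff_conj.mp hgv] at h3
  simpa using h3.symm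

omit [Finite G] in
include J T in
theorem rho_ne {v : G} (hv : v ∈ V) (hv1 : v ≠ 1) : ¬ Commute ρ v := fun h => by
  obtain ⟨w, hw, hw'⟩ := T.rho_not
  exact hw' (T.cent_of_fix J T.rho_norm hv hv1 h w hw)

omit [Finite G] in
include T in
theorem rho_cube : ρ ^ 3 = 1 := by rw [← T.rho_ord, pow_orderOf_eq_one]

omit [Finite G] in
include T in
theorem exists_ne_one : ∃ v ∈ V, v ≠ 1 := by
  obtain ⟨v, hv, -, -, h1, -⟩ := Invol.klein_exists_pair T.klein
  exact ⟨v, hv, h1⟩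

include J T in
/-- `N(V) = C(V) ⟨ρ⟩`. -/
theorem norm_cases {g : G} (hg : ∀ y ∈ V, g * y * g⁻¹ ∈ V) :
    (∀ y ∈ V, Commute g y) ∨ (∀ y ∈ V, Commute (ρ⁻¹ * g) y) ∨ ∀ y ∈ V, Commute (ρ * g) y := by
  obtain ⟨v, hv, hv1⟩ := T.exists_ne_one
  have h1 : ρ * v * ρ⁻¹ ≠ v := fun h => T.rho_ne J hv hv1 (commute_iff_conj.mpr h)
  have hn := norm_inv T.rho_norm
  have h2 : ρ⁻¹ * v * ρ⁻¹⁻¹ = v * (ρ * v * ρ⁻¹) := by
    refine Invol.klein_eq_mul T.klein hv (T.rho_norm v hv) (hn v hv) hv1 (conj_ne_one hv1 ρ)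
      h1.symm (conj_ne_one hv1 _) (fun h => T.rho_ne J hv hv1 ?_) (fun h => h1 ?_)
    · simpa using (commute_iff_conj.mpr h).inv_left
    · have h3 : ρ * (ρ * v * ρ⁻¹) * ρ⁻¹ = v := by rw [← h]; group
      calc ρ * v * ρ⁻¹ = ρ * (ρ * (ρ * v * ρ⁻¹) * ρ⁻¹) * ρ⁻¹ := by rw [h3]
        _ = ρ ^ 3 * v * (ρ ^ 3)⁻¹ := by rw [pow_three]; group
        _ = v := by rw [T.rho_cube]; group
  by_cases h3 : g * v * g⁻¹ = v
  · exact Or.inl (T.cent_of_fix J hg hv hv1 (commute_iff_conj.mpr h3))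
  by_cases h4 : g * v * g⁻¹ = ρ * v * ρ⁻¹
  · refine Or.inr (Or.inl (T.cent_of_fix J (fun y hy => ?_) hv hv1 (commute_iff_conj.mpr ?_)))
    · simpa [mul_assoc] using hn _ (hg y hy)
    · rw [show ρ⁻¹ * g * v * (ρ⁻¹ * g)⁻¹ = ρ⁻¹ * (g * v * g⁻¹) * ρ by group, h4]; group
  · refine Or.inr (Or.inr (T.cent_of_fix J (fun y hy => ?_) hv hv1 (commute_iff_conj.mpr ?_)))
    · simpa [mul_assoc] using T.rho_norm _ (hg y hy)
    · rw [show ρ * g * v * (ρ * g)⁻¹ = ρ * (g * v * g⁻¹) * ρ⁻¹ by group,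
        Invol.klein_eq_mul T.klein hv (T.rho_norm v hv) (hg v hv) hv1 (conj_ne_one hv1 ρ)
          h1.symm (conj_ne_one hv1 _) h3 h4, ← h2]
      group

include J T in
/-- Two involutions of `C(r)`, one of them in `V`, whose product has even order. -/
theorem mem_of_even {r v a : G} (hr : r ∈ R) (hr1 : r ≠ 1) (hv : v ∈ V) (hv1 : v ≠ 1)
    (ha : a * a = 1) (har : Commute a r) (he : Even (orderOf (v * a))) : a ∈ V := by
  obtain ⟨h1, h2, h3⟩ := Invol.central_involution_of_even (T.sq hv) ha he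
  have h4 : Commute ((v * a) ^ (orderOf (v * a) / 2)) r :=
    ((T.comm v hv r hr).mul_left har).pow_left _
  have h5 := T.memV J (T.cent v hv hv1 r hr hr1 _ h2 h4) (Invol.mul_self_of_orderOf_two h1)
  exact T.memV J (T.cent _ h5 (Invol.ne_one_of_orderOf_two h1) r hr hr1 a h3.symm har) ha

include J T in
/-- A subgroup between `V` and `C(r)` that does not fuse the involutions of `V` centralises `V`. -/
theorem nofusion {r : G} (hr : r ∈ R) (hr1 : r ≠ 1) {B : Subgroup G} (hVB : V ≤ B)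
    (hB : ∀ g ∈ B, Commute g r)
    (hN : ∀ g ∈ B, (∀ y ∈ V, g * y * g⁻¹ ∈ V) → ∀ y ∈ V, Commute g y) :
    ∀ g ∈ B, ∀ y ∈ V, Commute g y := by
  intro g hg
  obtain ⟨v, hv, w, hw, hv1, hw1, hvw⟩ := Invol.klein_exists_pair T.klein
  have key : ∀ b ∈ B, b * v * b⁻¹ ∈ V → ∀ y ∈ V, Commute b y := fun b hb h =>
    hN b hb (T.norm_of_conj J hr hr1 (by rwa [commute_iff_conj.mp (hB b hb)]) hv hv1 h)
  have ha : g * v * g⁻¹ ∈ B := mul_mem (mul_mem hg (hVB hv)) (inv_mem hg)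
  refine key g hg (T.mem_of_even J hr hr1 hw hw1 (conj_mul_self (T.sq hv) g) (hB _ ha) ?_)
  by_contra hodd
  obtain ⟨n, hn⟩ := Invol.exists_pow_conj_of_odd (T.sq hw) (conj_mul_self (T.sq hv) g)
    (Nat.not_even_iff_odd.mp hodd)
  have h1 : ((w * (g * v * g⁻¹)) ^ n)⁻¹ * g * v * (((w * (g * v * g⁻¹)) ^ n)⁻¹ * g)⁻¹ = w := by
    generalize (w * (g * v * g⁻¹)) ^ n = d at hn
    rw [show d⁻¹ * g * v * (d⁻¹ * g)⁻¹ = d⁻¹ * (g * v * g⁻¹) * d by group, ← hn]
    group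
  have h2 := key _ (mul_mem (inv_mem (pow_mem (mul_mem (hVB hw) ha) n)) hg) (h1.symm ▸ hw) v hv
  exact hvw ((commute_iff_conj.mp h2).symm.trans h1)

include J T in
/-- `V` is a Sylow `2`-subgroup of every subgroup between `V` and `C(r)`. -/
theorem conj_into {r : G} (hr : r ∈ R) (hr1 : r ≠ 1) {B : Subgroup G} (hVB : V ≤ B)
    (hB : ∀ g ∈ B, Commute g r) {a : G} (ha : a ∈ B) (ha2 : a * a = 1) :
    ∃ b ∈ B, b * a * b⁻¹ ∈ V := by
  have hV : IsPGroup 2 V := IsPGroup.of_card (n := 2) T.klein.card_four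
  obtain ⟨P, hP⟩ := (hV.comap_subtype (K := B)).exists_le_sylow
  obtain ⟨b, hb⟩ := Invol.exists_conj_mem_sylow (t := (⟨a, ha⟩ : B)) (Subtype.ext ha2) P
  obtain ⟨v, hv, hv1⟩ := T.exists_ne_one
  have h1 := J.el _ (P.2.map B.subtype)
  have h2 : (b : G) * a * b⁻¹ ∈ (P : Subgroup B).map B.subtype := ⟨_, hb, rfl⟩
  refine ⟨b, b.2, T.memV J (T.cent v hv hv1 r hr hr1 _ ?_ (hB _ (map_subtype_le _ h2))) (h1 _ h2)⟩
  exact SG.comm_of_mul_self h1 _ h2 v ⟨⟨v, hVB hv⟩, hP hv, rfl⟩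

include T in
theorem three_dvd {g : G} (hg : orderOf g = 3) (h : ∃ v ∈ V, ∃ r ∈ R, g = v * r) (J : JT G k) :
    3 ∣ k := hg ▸ T.ordR (T.memR' J h (by rw [hg]; decide))

include J T in
/-- If `3 ∤ k`, an element normalising `⟨r⟩` and commuting with `ρ ∈ C(r)` normalises `V`. -/
theorem norm_of_comm_rho (h3 : ¬ 3 ∣ k) {r y : G} (hr : r ∈ R) (hr1 : r ≠ 1) (hρ : Commute ρ r)
    (hyρ : Commute y ρ) (hy : y ∈ normalizer ((zpowers r : Subgroup G) : Set G)) :
    ∀ v ∈ V, y * v * y⁻¹ ∈ V := by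
  obtain ⟨v, hv, hv1⟩ := T.exists_ne_one
  have hzR : zpowers r ≤ R := zpowers_le.mpr hr
  have hyr : y * r * y⁻¹ ∈ zpowers r := (mem_normalizer_iff.mp hy r).mp (mem_zpowers r)
  suffices h : y * v * y⁻¹ ∈ V from T.norm_of_conj J hr hr1 (hzR hyr) hv hv1 h
  have hv' : Commute (y * v * y⁻¹) r := by
    have h1 := (mem_normalizer_iff.mp (inv_mem hy) r).mp (mem_zpowers r)
    simpa [mul_assoc] using commute_conj (T.comm v hv _ (hzR h1)) y
  have hvv := conj_mul_self (T.sq hv) y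
  by_contra hne
  have hodd : Odd (orderOf (v * (y * v * y⁻¹))) := Nat.not_even_iff_odd.mp
    (fun he => hne (T.mem_of_even J hr hr1 hv hv1 hvv hv' he))
  obtain ⟨n, hn⟩ := Invol.exists_invol_conj_of_odd (T.sq hv) hvv hodd
  have hww := Invol.mul_zpow_mul_self_of_inverts (T.sq hv) (Invol.left_conj_mul (T.sq hv) hvv) n
  have hwr : Commute (v * (v * (y * v * y⁻¹)) ^ n) r :=
    (T.comm v hv r hr).mul_left (((T.comm v hv r hr).mul_left hv').zpow_left n)
  generalize v * (v * (y * v * y⁻¹)) ^ n = w at hn hww hwr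
  have hw' : w⁻¹ = w := inv_eq_of_mul_eq_one_right hww
  have hwv : ¬ Commute w v := fun h => hne (by rwa [← hn, commute_iff_conj.mp h])
  have hg1 : Commute (w⁻¹ * y) v := by
    rw [commute_iff_conj, show w⁻¹ * y * v * (w⁻¹ * y)⁻¹ = w⁻¹ * (y * v * y⁻¹) * w by group, ← hn]
    group
  have hg2 : w⁻¹ * y * r * (w⁻¹ * y)⁻¹ ∈ R := by
    rw [show w⁻¹ * y * r * (w⁻¹ * y)⁻¹ = w⁻¹ * (y * r * y⁻¹) * w⁻¹⁻¹ by group]
    obtain ⟨j, hj⟩ := hyr
    rw [← hj, commute_iff_conj.mp (hwr.inv_left.zpow_right j)]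
    exact zpow_mem hr j
  have hg := T.cent_of_fix J (T.norm_of_conj J hr hr1 hg2 hv hv1
    (by rwa [commute_iff_conj.mp hg1])) hv hv1 hg1
  have h1 : Commute (w⁻¹ * (ρ * w * ρ⁻¹)) v := by
    have h2 := commute_iff_conj.mp (hg _ (norm_inv T.rho_norm v hv))
    have h4 : ρ * y * ρ⁻¹ = y := commute_iff_conj.mp hyρ.symm
    rw [commute_iff_conj]
    calc _ = w⁻¹ * (ρ * w * (ρ⁻¹ * v * ρ⁻¹⁻¹) * w⁻¹ * ρ⁻¹) * w := by group
      _ = w⁻¹ * ((ρ * y * ρ⁻¹) * v * (ρ * y * ρ⁻¹)⁻¹) * w := by rw [← h2]; group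
      _ = v := by rw [h4, ← hn]; group
  have h2 : Commute (w⁻¹ * (ρ * w * ρ⁻¹)) r :=
    hwr.inv_left.mul_left ((hρ.mul_left hwr).mul_left hρ.inv_left)
  have h4 : w * (w⁻¹ * (ρ * w * ρ⁻¹)) * w⁻¹ = (w⁻¹ * (ρ * w * ρ⁻¹))⁻¹ := by
    rw [mul_inv_rev (w⁻¹), mul_inv_rev, mul_inv_rev, inv_inv, inv_inv, hw']
    calc _ = (w * w) * (ρ * w * ρ⁻¹ * w) := by group
      _ = _ := by rw [hww]; group
  have h5 : w⁻¹ * (ρ * w * ρ⁻¹) = 1 := by
    generalize w⁻¹ * (ρ * w * ρ⁻¹) = x at h1 h2 h4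
    have hx := T.cent v hv hv1 r hr hr1 x h1 h2
    obtain ⟨b, hb, hbw⟩ := T.conj_into J hr hr1
      (B := centralizer {r} ⊓ normalizer ((zpowers x : Subgroup G) : Set G))
      (fun a ha => ⟨mem_cent.mpr (T.comm a ha r hr), mem_norm_zpowers (by
        rw [commute_iff_conj.mp (T.comm_of_mem hx ha).symm]; exact mem_zpowers x)⟩)
      (fun g hg => mem_cent.mp hg.1)
      ⟨mem_cent.mpr hwr, mem_norm_zpowers (h4 ▸ inv_mem (mem_zpowers x))⟩ hww
    obtain ⟨j, hj⟩ := (mem_normalizer_iff.mp hb.2 x).mp (mem_zpowers x)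
    have h6 : Commute w x := commute_of_conj (g := b) (by
      rw [← hj]; exact (T.comm_of_mem hx hbw).symm.zpow_right j)
    rw [commute_iff_conj.mp h6] at h4
    have h7 := T.memV J hx (eq_inv_iff_mul_eq_one.mp h4)
    by_contra h8
    exact hwv (T.comm_of_mem (T.cent x h7 h8 r hr hr1 w h6 hwr) hv)
  have h6 : Commute ρ w := commute_iff_conj.mpr (inv_mul_eq_one.mp h5).symm
  obtain ⟨b, hb, hbw⟩ := T.conj_into J hr hr1 (B := centralizer {r})
    (fun a ha => mem_cent.mpr (T.comm a ha r hr)) (fun g hg => mem_cent.mp hg)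
    (mem_cent.mpr hwr) hww
  have hw1 : w ≠ 1 := by rintro rfl; exact hwv (Commute.one_left v)
  refine h3 (T.three_dvd ((Invol.orderOf_conj b ρ).trans T.rho_ord)
    (T.cent _ hbw (conj_ne_one hw1 b) r hr hr1 _ (commute_conj h6 b) ?_) J)
  exact ((mem_cent.mp hb).mul_left hρ).mul_left (mem_cent.mp hb).inv_left

include J T in
/-- An element normalising `V` and centralising `u v` centralises `V`. -/
theorem cent_of_comm_uv {v g : G} (hv : v ∈ V) (hv1 : v ≠ 1) (hg : ∀ y ∈ V, g * y * g⁻¹ ∈ V)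
    (hguv : Commute g (u * v)) : ∀ y ∈ V, Commute g y := by
  refine T.cent_of_fix J hg hv hv1 (commute_iff_conj.mpr ?_)
  by_contra hne
  have h1 : g * u * g⁻¹ = u * (v * (g * v * g⁻¹)⁻¹) := by
    rw [← mul_assoc, ← commute_iff_conj.mp hguv]; group
  have h2 : v * (g * v * g⁻¹)⁻¹ ∈ V := mul_mem hv (inv_mem (hg v hv))
  have h3 : v * (g * v * g⁻¹)⁻¹ ≠ 1 := fun h => hne (mul_inv_eq_one.mp h).symm
  generalize v * (g * v * g⁻¹)⁻¹ = x at h1 h2 h3
  have key : ∀ d : G, Commute d u → (∀ y ∈ V, d * y * d⁻¹ ∈ V) → ¬ ∀ y ∈ V, Commute (d * g) y := by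
    intro d hd hdV h
    refine J.fix _ u (d * g) (T.ordV (hdV x h2) (conj_ne_one h3 d)) (h _ (hdV x h2))
      (T.u_comm _ (hdV x h2)) ?_
    rw [← (T.u_comm _ (hdV x h2)).eq,
      show d * g * u * (d * g)⁻¹ = d * (g * u * g⁻¹) * d⁻¹ by group, h1]
    conv_rhs => rw [← commute_iff_conj.mp hd]
    group
  rcases T.norm_cases J hg with h | h | h
  · exact hne (commute_iff_conj.mp (h v hv))
  · exact key _ T.rho_u.inv_left (norm_inv T.rho_norm) h
  · exact key _ T.rho_u T.rho_norm h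

include J T in
/-- Every involution centralising `r ∈ R#` commutes with `u`. -/
theorem comm_u {r a : G} (hr : r ∈ R) (hr1 : r ≠ 1) (ha : a * a = 1) (har : Commute a r) :
    Commute a u := by
  have huu := Invol.mul_self_of_orderOf_two T.u_ord
  have hx : a * u * r * (a * u)⁻¹ = r⁻¹ := by
    rw [show a * u * r * (a * u)⁻¹ = a * (u * r * u⁻¹) * a⁻¹ by group, T.u_inv r hr,
      commute_iff_conj.mp har.inv_right]
  have he : Even (orderOf (a * u)) := by
    by_contra h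
    exact hr1 (eq_one_of_inverts (Nat.not_even_iff_odd.mp h) (T.oddR J hr) hx)
  obtain ⟨h1, h2, h3⟩ := Invol.central_involution_of_even ha huu he
  obtain ⟨n, hn⟩ := he
  rw [show orderOf (a * u) / 2 = n by omega] at h1 h2 h3
  have hc : Commute (a * u * (a * u)) r := by
    rw [commute_iff_conj, show a * u * (a * u) * r * (a * u * (a * u))⁻¹ =
      a * u * (a * u * r * (a * u)⁻¹) * (a * u)⁻¹ by group, hx,
      show a * u * r⁻¹ * (a * u)⁻¹ = (a * u * r * (a * u)⁻¹)⁻¹ by group, hx, inv_inv]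
  have hno : Odd n := by
    by_contra h
    obtain ⟨m, rfl⟩ := Nat.not_odd_iff_even.mp h
    have h4 : IsPGroup 2 (zpowers ((a * u) ^ m)) := IsPGroup.of_card_dvd_pow (n := 2) (by
      rw [Nat.card_zpowers, orderOf_dvd_iff_pow_eq_one, ← pow_mul, ← orderOf_dvd_iff_pow_eq_one,
        hn]
      exact ⟨1, by ring⟩)
    rw [pow_add, J.el _ h4 _ (mem_zpowers _)] at h1
    simp at h1
  have hco : Odd (orderOf (a * u * (a * u))) := hno.of_dvd_nat (by
    rw [orderOf_dvd_iff_pow_eq_one, ← pow_two, ← pow_mul, two_mul, ← hn, pow_orderOf_eq_one])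
  have hzc : Commute (a * u * (a * u)) ((a * u) ^ n) :=
    ((Commute.refl _).mul_left (Commute.refl _)).pow_right n
  have hzr : Commute (u * (a * u) ^ n) r := by
    obtain ⟨m, rfl⟩ := hno
    have h5 := commute_iff_conj.mp (hc.pow_left m).inv_right
    rw [commute_iff_conj, pow_succ', pow_mul, pow_two]
    generalize (a * u * (a * u)) ^ m = c at h5
    have h6 : c * r * c⁻¹ = r := by simpa [mul_assoc] using congrArg (·⁻¹) h5
    rw [show u * (a * u * c) * r * (u * (a * u * c))⁻¹ =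
      u * (a * u * (c * r * c⁻¹) * (a * u)⁻¹) * u⁻¹ by group, h6, hx,
      T.u_inv _ (inv_mem hr), inv_inv]
  have hzz := Invol.mul_self_of_orderOf_two h1
  generalize (a * u) ^ n = z at *
  by_cases hz : u * z = 1
  · rwa [eq_inv_of_mul_eq_one_left hz, Commute.inv_right_iff, Commute.symm_iff]
  obtain ⟨b, hb, hbz⟩ := T.conj_into J hr hr1 (B := centralizer {r} ⊓ centralizer {u})
    (fun y hy => ⟨mem_cent.mpr (T.comm y hy r hr), mem_cent.mpr (T.u_comm y hy).symm⟩)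
    (fun g hg => mem_cent.mp hg.1) (a := u * z)
    ⟨mem_cent.mpr hzr, mem_cent.mpr ((Commute.refl u).mul_left h3)⟩
    (by rw [mul_assoc, ← mul_assoc z, h3.eq, mul_assoc, hzz, mul_one, huu])
  have hbu := mem_cent.mp hb.2
  have hbr := mem_cent.mp hb.1
  have h4 : b * z * b⁻¹ = u * (b * (u * z) * b⁻¹) := by
    rw [show b * (u * z) * b⁻¹ = (b * u * b⁻¹) * (b * z * b⁻¹) by group, commute_iff_conj.mp hbu,
      ← mul_assoc u, huu, one_mul]
  have hv1 := conj_ne_one hz b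
  generalize b * (u * z) * b⁻¹ = v at *
  have h5 : Commute (b * (a * u * (a * u)) * b⁻¹) (u * v) := h4 ▸ commute_conj hzc b
  have h6 := T.nofusion J hr hr1 (B := centralizer {r} ⊓ centralizer {u * v})
    (fun y hy => ⟨mem_cent.mpr (T.comm y hy r hr),
      mem_cent.mpr ((T.u_comm y hy).symm.mul_right (T.commV hy hbz))⟩)
    (fun g hg => mem_cent.mp hg.1)
    (fun g hg hgV => T.cent_of_comm_uv J hbz hv1 hgV (mem_cent.mp hg.2))
    (b * (a * u * (a * u)) * b⁻¹)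
    ⟨mem_cent.mpr ((hbr.mul_left hc).mul_left hbr.inv_left), mem_cent.mpr h5⟩
  have h7 := T.memR J h6 (by rwa [Invol.orderOf_conj])
  have h8 : Commute u (b * (a * u * (a * u)) * b⁻¹) := by
    have := h5.mul_right (h6 v hbz)
    rw [mul_assoc u, T.sq hbz, mul_one] at this
    exact this.symm
  have h9 := T.u_inv _ h7
  rw [commute_iff_conj.mp h8] at h9
  have h10 : a * u * (a * u) = 1 := by
    by_contra h
    exact conj_ne_one h b (eq_one_of_odd (T.oddR J h7) (eq_inv_iff_mul_eq_one.mp h9))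
  rw [commute_iff_eq, eq_inv_of_mul_eq_one_left h10, mul_inv_rev,
    inv_eq_of_mul_eq_one_right ha, inv_eq_of_mul_eq_one_right huu]

end Tor

end CL.WAL
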