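import Cfsg.Agent.Base
import Cfsg.Agent.WAL.ReeLocal
import Cfsg.Agent.PF.Wielandt
import Cfsg.Agent.Solv.CoreFree
import Cfsg.Agent.PSL2.Klein
import Cfsg.Agent.S0205

/-!
Groups with involution centralisers of type `Z₂ × PSL₂(q)`: the torus `V × R` is the centraliser of
each non-identity element of `R`.
-/

set_option autoImplicit false

namespace CL.WAL

open Subgroup

variable {G : Type*} [Group G] [Finite G]

theorem zpowers_eq_of_isCyclic {R : Subgroup G} (hR : IsCyclic R) {a b : G} (ha : a ∈ R)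
    (hb : b ∈ R) (h : orderOf b ∣ orderOf a) : b ∈ zpowers a := by
  classical
  have := Fintype.ofFinite R
  have h1 := IsCyclic.card_pow_eq_one_le (α := R) (orderOf_pos a)
  have h2 : ((zpowers (⟨a, ha⟩ : R) : Subgroup R) : Set R) = {x : R | x ^ orderOf a = 1} := by
    refine Set.eq_of_subset_of_ncard_le ?_ ?_
    · intro x hx
      rw [Set.mem_ofPred_eq, ← orderOf_dvd_iff_pow_eq_one, ← orderOf_mk a ha]
      exact orderOf_dvd_of_mem_zpowers hx
    · rw [← Nat.card_coe_set_eq (s := ((zpowers (⟨a, ha⟩ : R) : Subgroup R) : Set R))]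
      change _ ≤ Nat.card (zpowers (⟨a, ha⟩ : R))
      rw [Nat.card_zpowers, orderOf_mk, Set.ncard_eq_toFinset_card']
      simpa using h1
  have h3 : (⟨b, hb⟩ : R) ∈ ((zpowers (⟨a, ha⟩ : R) : Subgroup R) : Set R) := by
    rw [h2, Set.mem_ofPred_eq, ← orderOf_dvd_iff_pow_eq_one, orderOf_mk]
    exact h
  obtain ⟨j, hj⟩ := h3
  exact ⟨j, congrArg Subtype.val hj⟩

theorem eq_or_eq_inv_of_three {y g : G} (hy : orderOf y = 3) (hg : g ∈ zpowers y) (h1 : g ≠ 1) :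
    g = y ∨ g = y⁻¹ := by
  obtain ⟨k, hk, rfl⟩ := SG.exists_pow_eq_of_mem_zpowers hg
  rw [hy] at hk
  interval_cases k
  · simp at h1
  · simp
  · right
    rw [eq_inv_iff_mul_eq_one, ← pow_succ, ← orderOf_dvd_iff_pow_eq_one, hy]

/-- Burnside's transfer theorem for a subgroup `P` that is a Sylow subgroup of `H`. -/
theorem exists_compl_of_le {p : ℕ} [Fact p.Prime] {P H : Subgroup G} (hle : P ≤ H)
    (hP : IsPGroup p P) (hmax : ∀ Q : Subgroup G, IsPGroup p Q → P ≤ Q → Q ≤ H → Q ≤ P)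
    (hN : ∀ g ∈ H, (∀ x ∈ P, g * x * g⁻¹ ∈ P) → ∀ x ∈ P, Commute g x) :
    ∃ L : Subgroup G, Nat.card L * Nat.card P = Nat.card H ∧
      ∀ g, g ∈ L ↔ g ∈ H ∧ ¬ p ∣ orderOf g := by
  obtain ⟨S, hS⟩ := (hP.comap_subtype (K := H)).exists_le_sylow
  have h1 : ∀ x : H, x ∈ (S : Subgroup H) ↔ (x : G) ∈ P := fun x =>
    ⟨fun hx => hmax _ (S.2.map H.subtype) (fun y hy => ⟨⟨y, hle hy⟩, hS hy, rfl⟩)
      (map_subtype_le _) ⟨x, hx, rfl⟩, fun hx => hS hx⟩
  obtain ⟨L, h2, h3⟩ := SG.exists_normal_complement S (H := ⊤) le_top (by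
    intro g hg x hx
    refine Subtype.ext (hN g g.2 (fun y hy => ?_) x ((h1 x).mp hx)).symm.eq
    exact (h1 _).mp ((mem_normalizer_iff.mp hg.1 ⟨y, hle hy⟩).mp ((h1 _).mpr hy)))
  refine ⟨L.map H.subtype, ?_, fun g => ⟨?_, fun hg => ⟨⟨g, hg.1⟩, (h3 _).mpr ⟨mem_top _, ?_⟩, rfl⟩⟩⟩
  · rw [card_map_of_injective H.subtype_injective, ← card_top (G := H), ← h2,
      ← SG.card_subgroupOf hle]
    rw [show P.subgroupOf H = S from Subgroup.ext fun x => (h1 x).symm]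
  · rintro ⟨x, hx, rfl⟩
    exact ⟨x.2, by simpa using ((h3 x).mp hx).2⟩
  · simpa using hg.2

variable {k : ℕ} (J : JT G k)
include J

theorem JT.comm_of_isPGroup {P : Subgroup G} (hP : IsPGroup 2 P) {a b : G} (ha : a ∈ P)
    (hb : b ∈ P) : Commute a b := SG.comm_of_mul_self (J.el P hP) a ha b hb

/-- If `3 ∣ k`, every element of order `3` centralising `w ∈ V#` is conjugate into `R`. -/
theorem Tor.conj_three {V R : Subgroup G} {u ρ : G} (T : Tor k V R u ρ) (h3 : 3 ∣ k) {w x : G}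
    (hw : w ∈ V) (hw1 : w ≠ 1) (hx : orderOf x = 3) (hxw : Commute x w) :
    ∃ g : G, Commute g w ∧ g * x * g⁻¹ ∈ R := by
  obtain ⟨n, hn, hc⟩ := J.card w (T.ordV hw hw1)
  set C := centralizer ({w} : Set G)
  have hRC : R ≤ C := fun r hr => mem_cent.mpr (T.comm w hw r hr).symm
  obtain ⟨P⟩ : Nonempty (Sylow 3 (R.subgroupOf C)) := inferInstance
  have h1 : ¬ 3 ∣ ((P : Subgroup (R.subgroupOf C)).map (R.subgroupOf C).subtype).index := by
    rw [index_map_subtype, SG.index_subgroupOf_eq hRC (m := 8 * n) (by rw [hc, T.card_R]; ring),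
      Nat.Prime.dvd_mul Nat.prime_three, Nat.Prime.dvd_mul Nat.prime_three]
    rintro (h | h | h)
    · exact P.not_dvd_index h
    · omega
    · have := Nat.eq_one_of_dvd_coprimes hn h h3
      omega
  let Q : Sylow 3 C := (P.2.map _).toSylow h1
  obtain ⟨S, hS⟩ := SG.exists_sylow_mem (p := 3) (k := 1) (x := (⟨x, mem_cent.mpr hxw⟩ : C))
    (by rw [orderOf_mk, hx]; norm_num)
  obtain ⟨g, hg⟩ := MulAction.exists_smul_eq C S Q
  have h2 : g * ⟨x, mem_cent.mpr hxw⟩ * g⁻¹ ∈ (Q : Subgroup C) := by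
    rw [← hg]
    exact ⟨_, hS, rfl⟩
  obtain ⟨y, -, hy⟩ := h2
  refine ⟨g, mem_cent.mp g.2, ?_⟩
  have h4 : ((y : C) : G) ∈ R := y.2
  rwa [show ((y : C) : G) = _ from congrArg Subtype.val hy] at h4

theorem JT.exists_tor {w s : G} (hw : orderOf w = 2) (hs : orderOf s = 2) (hne : w ≠ s)
    (h : Commute w s) : ∃ V R u ρ, Tor k V R u ρ ∧ w ∈ V ∧ s ∈ V := by
  obtain ⟨R, u, ρ, T⟩ := J.tor _ (PSL2.isKleinFour_closure hw hs hne h.eq)
  exact ⟨_, R, u, ρ, T, subset_closure (by simp), subset_closure (by simp)⟩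

/-- If `3 ∣ k`, the subgroups of order `3` of an involution centraliser are conjugate in it, and they
lie in tori. -/
theorem JT.conj_three (h3 : 3 ∣ k) {w s x : G} (hw : orderOf w = 2) (hs : orderOf s = 2)
    (hne : w ≠ s) (h : Commute w s) (hx : orderOf x = 3) (hxw : Commute x w) :
    ∃ V R u ρ, Tor k V R u ρ ∧ w ∈ V ∧ x ∈ R := by
  obtain ⟨V, R, u, ρ, T, hwV, hsV⟩ := J.exists_tor hw hs hne h
  obtain ⟨g, hg, hgx⟩ := T.conj_three J h3 hwV (Invol.ne_one_of_orderOf_two hw) hx hxw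
  have h1 : g⁻¹ * w * g⁻¹⁻¹ = w := commute_iff_conj.mp hg.inv_left
  obtain ⟨R', u', ρ', T'⟩ := J.tor _ (PSL2.isKleinFour_map_conj T.klein g⁻¹)
  refine ⟨_, R', u', ρ', T', ⟨w, hwV, h1⟩, T'.memR J ?_ (by rw [hx]; decide)⟩
  rintro _ ⟨v, hv, rfl⟩
  simpa [mul_assoc] using commute_conj (T.comm v hv _ hgx).symm g⁻¹

variable {V R : Subgroup G} {u ρ : G} (T : Tor k V R u ρ)
include T

namespace Tor

theorem not_three : ¬ 3 ∣ k := by
  intro h3
  obtain ⟨r, hr, hr3⟩ := SG.exists_orderOf_eq_mem R 3 (T.card_R ▸ h3)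
  have hr1 : r ≠ 1 := by rintro rfl; simp at hr3
  have hρ1 : ρ ≠ 1 := by rintro rfl; simpa using T.rho_ord
  have hρr : Commute ρ r := by
    rcases eq_or_eq_inv_of_three hr3 (zpowers_eq_of_isCyclic T.cyc hr (T.conjR J T.rho_norm hr)
      (by rw [Invol.orderOf_conj])) (conj_ne_one hr1 ρ) with h | h
    · exact commute_iff_conj.mpr h
    · exact absurd (eq_one_of_inverts (by rw [T.rho_ord]; decide) (T.oddR J hr) h) hr1
  have huu := Invol.mul_self_of_orderOf_two T.u_ord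
  have hu1 := Invol.ne_one_of_orderOf_two T.u_ord
  obtain ⟨v, hv, hv1⟩ := T.exists_ne_one
  obtain ⟨V', R', u', ρ', T', huV', hρR'⟩ := J.conj_three h3 T.u_ord (T.ordV hv hv1)
    (by rintro rfl; exact T.u_notMem hv) (T.u_comm v hv) T.rho_ord T.rho_u
  have hI' : ∀ a : G, a * a = 1 → Commute a ρ → Commute a u' := fun a ha h =>
    T'.comm_u J hρR' hρ1 ha h
  have ha : Commute (r * u * r⁻¹) ρ := (hρr.symm.mul_left T.rho_u.symm).mul_left hρr.symm.inv_left
  have hrr : r * u * r⁻¹ * u = r ^ 2 := by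
    rw [pow_two, mul_assoc, mul_assoc, ← inv_inj, mul_inv_rev, mul_inv_rev, mul_inv_rev,
      mul_inv_rev, inv_inv, ← T.u_inv r hr, inv_eq_of_mul_eq_one_right huu]
  have hr4 : r = (r ^ 2) ^ 2 := by
    rw [← pow_mul, pow_succ, ← hr3, pow_orderOf_eq_one, one_mul]
  have hru' : Commute r u' := by
    rw [hr4, ← hrr]
    exact ((hI' _ (conj_mul_self huu r) ha).mul_left (hI' u huu T.rho_u.symm)).pow_left 2
  obtain ⟨g₀, hg₀⟩ := isConj_iff.mp (J.conj u' u T'.u_ord T.u_ord)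
  obtain ⟨h, hhu, hh⟩ := T'.conj_three J h3 huV' hu1 ((Invol.orderOf_conj g₀ r).trans hr3)
    (hg₀ ▸ commute_conj hru' g₀)
  obtain ⟨g₁, hg₁, hg₁r⟩ : ∃ g₁ : G, g₁ * u' * g₁⁻¹ = u ∧ g₁ * r * g₁⁻¹ ∈ R' :=
    ⟨h * g₀, by rw [← commute_iff_conj.mp hhu, ← hg₀]; group, by simpa [mul_assoc] using hh⟩
  have hρz : ρ ∈ zpowers (g₁ * r * g₁⁻¹) := zpowers_eq_of_isCyclic T'.cyc hg₁r hρR'
    (by rw [Invol.orderOf_conj, hr3, T.rho_ord])
  have hzρ : g₁ * r * g₁⁻¹ ∈ zpowers ρ := zpowers_eq_of_isCyclic T'.cyc hρR' hg₁r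
    (by rw [Invol.orderOf_conj, hr3, T.rho_ord])
  have hI : ∀ a : G, a * a = 1 → Commute a ρ → Commute a (g₁ * u * g₁⁻¹) := by
    intro a ha2 haρ
    obtain ⟨j, hj⟩ := hzρ
    have h1 := commute_conj (hj ▸ haρ.zpow_right j : Commute a (g₁ * r * g₁⁻¹)) g₁⁻¹
    have h2 := T.comm_u J hr hr1 (conj_mul_self ha2 g₁⁻¹) (by simpa [mul_assoc] using h1)
    simpa [mul_assoc] using commute_conj h2 g₁
  have hinv : g₁ * u * g₁⁻¹ * ρ * (g₁ * u * g₁⁻¹)⁻¹ = ρ⁻¹ := by
    obtain ⟨j, hj⟩ := hρz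
    rw [← hj, ← conj_zpow, ← inv_zpow]
    congr 1
    rw [show g₁ * u * g₁⁻¹ * (g₁ * r * g₁⁻¹) * (g₁ * u * g₁⁻¹)⁻¹ = g₁ * (u * r * u⁻¹) * g₁⁻¹ by
      group, T.u_inv r hr]
    group
  have hu'u' := Invol.mul_self_of_orderOf_two T'.u_ord
  obtain ⟨v', hv', r', hr', he⟩ := T'.cent u huV' hu1 ρ hρR' hρ1 (g₁ * u * g₁⁻¹ * u')
    ((hI u huu T.rho_u.symm).symm.mul_left (T'.u_comm u huV')) (by
      rw [commute_iff_conj, mul_inv_rev, show g₁ * u * g₁⁻¹ * u' * ρ * (u'⁻¹ * (g₁ * u * g₁⁻¹)⁻¹) =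
        g₁ * u * g₁⁻¹ * (u' * ρ * u'⁻¹) * (g₁ * u * g₁⁻¹)⁻¹ by group, T'.u_inv ρ hρR',
        show g₁ * u * g₁⁻¹ * ρ⁻¹ * (g₁ * u * g₁⁻¹)⁻¹ = (g₁ * u * g₁⁻¹ * ρ * (g₁ * u * g₁⁻¹)⁻¹)⁻¹ by
          group, hinv, inv_inv])
  obtain ⟨m, hm⟩ := T'.oddR J hr'
  have hd : r' ^ m ∈ R' := pow_mem hr' m
  have hg : r' ^ m * g₁ * u * (r' ^ m * g₁)⁻¹ = v' * u' := by
    have h1 : g₁ * u * g₁⁻¹ = v' * r' * u' := by rw [← he, mul_assoc _ u', hu'u', mul_one]
    have h2 : r' ^ m * r' * r' ^ m = 1 := by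
      rw [← pow_succ, ← pow_add, ← pow_orderOf_eq_one r', hm]; congr 1; ring
    have h4 : u' * (r' ^ m)⁻¹ = r' ^ m * u' := by
      rw [← T'.u_inv _ hd, ← mul_assoc, ← mul_assoc, hu'u', one_mul,
        inv_eq_of_mul_eq_one_right hu'u']
    calc _ = r' ^ m * (g₁ * u * g₁⁻¹) * (r' ^ m)⁻¹ := by group
      _ = (r' ^ m * v') * r' * (u' * (r' ^ m)⁻¹) := by rw [h1]; group
      _ = v' * (r' ^ m * r' * r' ^ m) * u' := by rw [h4, ← (T'.comm v' hv' _ hd).eq]; group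
      _ = _ := by rw [h2, mul_one]
  have hg' : r' ^ m * g₁ * u' * (r' ^ m * g₁)⁻¹ = u := by
    rw [← commute_iff_conj.mp (T'.comm u huV' _ hd).symm, ← hg₁]; group
  have hv'1 : v' = 1 := by
    by_contra hne
    have hdρ := T'.commR hd hρR'
    have h1 := commute_conj (hI _ (conj_mul_self (conj_mul_self huu r) (r' ^ m)⁻¹)
      ((hdρ.inv_left.mul_left ha).mul_left hdρ.inv_left.inv_left)) (r' ^ m)
    have h2 : Commute (r * u * r⁻¹) (v' * u') := by
      rw [← hg]; simpa [mul_assoc] using h1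
    have h4 := h2.mul_right (hI' _ (conj_mul_self huu r) ha)
    rw [mul_assoc v', hu'u', mul_one] at h4
    have h5 := T'.comm_of_mem (T'.cent v' hv' hne ρ hρR' hρ1 _ h4 ha) huV'
    apply hr1
    rw [hr4, ← hrr, h5.mul_pow, pow_two, pow_two, conj_mul_self huu, huu, mul_one]
  rw [hv'1, one_mul] at hg
  have hne : u ≠ u' := by
    rintro rfl
    have := T'.u_inv ρ hρR'
    rw [commute_iff_conj.mp T.rho_u.symm] at this
    exact hρ1 (eq_one_of_odd (by rw [T.rho_ord]; decide) (eq_inv_iff_mul_eq_one.mp this))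
  have huu' := T'.u_comm u huV'
  refine J.fix (u * u') u (r' ^ m * g₁) (Invol.orderOf_two_of_mul_self (fun h => hne ?_) ?_)
    (commute_iff_conj.mpr ?_) ((Commute.refl u).mul_right huu'.symm) ?_
  · rw [eq_inv_of_mul_eq_one_left h, inv_eq_of_mul_eq_one_right hu'u']
  · rw [mul_assoc, ← mul_assoc u', huu'.eq, mul_assoc, hu'u', mul_one, huu]
  · generalize r' ^ m * g₁ = g at hg hg'
    rw [show g * (u * u') * g⁻¹ = (g * u * g⁻¹) * (g * u' * g⁻¹) by group, hg, hg', huu'.eq]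
  · rw [hg, mul_assoc, huu'.eq, ← mul_assoc, huu, one_mul]

/-- An element of odd order normalising `⟨r⟩` and commuting with `ρ ∈ C(r)` lies in `R ⟨ρ⟩`. -/
theorem mem_mul_rho {r y : G} (hr : r ∈ R) (hr1 : r ≠ 1) (hρ : Commute ρ r)
    (hyρ : Commute y ρ) (hy : y ∈ normalizer ((zpowers r : Subgroup G) : Set G))
    (hyo : Odd (orderOf y)) : ∃ e ∈ R, ∃ c ∈ zpowers ρ, Commute e ρ ∧ y = e * c := by
  have h1 := T.norm_of_comm_rho J (T.not_three J) hr hr1 hρ hyρ hy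
  have key : ∀ c ∈ zpowers ρ, (∀ v ∈ V, Commute (c * y) v) →
      ∃ e ∈ R, ∃ c ∈ zpowers ρ, Commute e ρ ∧ y = e * c := by
    intro c hc h
    obtain ⟨j, rfl⟩ := hc
    have h2 : Commute (ρ ^ j) y := hyρ.symm.zpow_left j
    refine ⟨ρ ^ j * y, T.memR J h (Odd.of_dvd_nat (Odd.mul ?_ hyo) h2.orderOf_mul_dvd_mul_orderOf),
      (ρ ^ j)⁻¹, inv_mem (zpow_mem (mem_zpowers ρ) j),
      ((Commute.refl ρ).zpow_left j).mul_left hyρ, by rw [h2.eq, mul_inv_cancel_right]⟩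
    exact Odd.of_dvd_nat (by rw [T.rho_ord]; decide)
      (orderOf_dvd_of_mem_zpowers (zpow_mem (mem_zpowers ρ) j))
  rcases T.norm_cases J h1 with h | h | h
  · exact key 1 (one_mem _) (by simpa using h)
  · exact key _ (inv_mem (mem_zpowers ρ)) h
  · exact key _ (mem_zpowers ρ) h

/-- `ρ` acts fixed-point-freely on `R`. -/
theorem eq_one_of_comm_rho {r : G} (hr : r ∈ R) (hρ : Commute ρ r) : r = 1 := by
  by_contra hr1
  obtain ⟨l, hl, hlr⟩ := Nat.exists_prime_and_dvd (mt orderOf_eq_one_iff.mp hr1)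
  obtain ⟨j, hj⟩ := SG.exists_pow_orderOf_eq hlr
  replace hr := pow_mem hr j
  replace hρ := hρ.pow_right j
  generalize r ^ j = r at *
  replace hr1 : r ≠ 1 := by rintro rfl; exact hl.one_lt.ne (by simpa using hj)
  have := Fact.mk hl
  have hlk : l ∣ k := hj ▸ T.ordR hr
  have h3 := T.not_three J
  have hl3 : l ≠ 3 := by rintro rfl; exact h3 hlk
  have hl2 : l ≠ 2 := by rintro rfl; exact (Nat.not_even_iff_odd.mpr J.odd) (even_iff_two_dvd.mpr hlk)
  have huu := Invol.mul_self_of_orderOf_two T.u_ord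
  obtain ⟨m, hm, hmk, hmo⟩ := J.three h3 u ρ T.u_ord T.rho_ord T.rho_u.symm
  have hzu : IsPGroup 2 (zpowers u) := IsPGroup.of_card (n := 1) (by
    rw [Nat.card_zpowers, T.u_ord, pow_one])
  have hcompl : ∀ H : Subgroup G, u ∈ H → H ≤ centralizer {ρ} → ∃ L : Subgroup G,
      Nat.card L * 2 = Nat.card H ∧ ∀ g, g ∈ L ↔ g ∈ H ∧ ¬ 2 ∣ orderOf g := by
    intro H hu hH
    suffices h : ∃ L : Subgroup G, Nat.card L * Nat.card (zpowers u) = Nat.card H ∧
        ∀ g, g ∈ L ↔ g ∈ H ∧ ¬ 2 ∣ orderOf g by rwa [Nat.card_zpowers, T.u_ord] at h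
    refine exists_compl_of_le (zpowers_le.mpr hu) hzu (fun Q hQ h1 h2 => ?_) (fun g _ h1 x hx => ?_)
    · have h4 : Q ≤ centralizer {u} ⊓ centralizer {ρ} := fun x hx =>
        ⟨mem_cent.mpr (J.comm_of_isPGroup hQ hx (h1 (mem_zpowers u))), hH (h2 hx)⟩
      have h5 := card_dvd_of_le h4
      obtain ⟨i, hi⟩ := IsPGroup.iff_card.mp hQ
      refine (SG.eq_of_le_of_card_le h1 ?_).ge
      rw [hm, hi] at h5
      rw [hi, Nat.card_zpowers, T.u_ord]
      exact Nat.le_of_dvd two_pos ((Nat.Coprime.pow_left i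
        (Nat.coprime_two_left.mpr hmo)).dvd_of_dvd_mul_right h5)
    · obtain ⟨i, rfl⟩ := hx
      refine Commute.zpow_right (commute_iff_conj.mpr ?_) i
      obtain ⟨i, hi, h2⟩ := SG.exists_pow_eq_of_mem_zpowers (h1 u (mem_zpowers u))
      rw [T.u_ord] at hi
      interval_cases i
      · exact absurd (h2.trans (pow_zero u)) (conj_ne_one (Invol.ne_one_of_orderOf_two T.u_ord) g)
      · simpa using h2
  obtain ⟨O, -, hO⟩ := hcompl _ (mem_cent.mpr T.rho_u.symm) le_rfl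
  have hOo : ∀ g ∈ O, Odd (orderOf g) := fun g hg =>
    Nat.not_even_iff_odd.mp (mt even_iff_two_dvd.mp ((hO g).mp hg).2)
  have hOρ : ∀ g ∈ O, Commute g ρ := fun g hg => mem_cent.mp ((hO g).mp hg).1
  have hmemO : ∀ g, Commute g ρ → Odd (orderOf g) → g ∈ O := fun g h1 h2 =>
    (hO g).mpr ⟨mem_cent.mpr h1, mt even_iff_two_dvd.mpr (Nat.not_even_iff_odd.mpr h2)⟩
  have hrO : r ∈ O := hmemO r hρ.symm (T.oddR J hr)
  have hzr : IsPGroup l (zpowers r) := IsPGroup.of_card (n := 1) (by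
    rw [Nat.card_zpowers, hj, pow_one])
  -- a Sylow `l`-subgroup of `O` lies in `R`
  have hN : ∀ g ∈ O, (g * r * g⁻¹ ∈ R) → ∃ e ∈ R, ∃ c ∈ zpowers ρ, Commute e ρ ∧ g = e * c :=
    fun g hg h1 => T.mem_mul_rho J hr hr1 hρ (hOρ g hg) (mem_norm_zpowers
      (zpowers_eq_of_isCyclic T.cyc hr h1 (by rw [Invol.orderOf_conj]))) (hOo g hg)
  have hle : ∀ X : Subgroup G, IsPGroup l X → r ∈ X → X ≤ O → X ≤ R := by
    intro X hX hrX hXO
    have h1 : (R.subgroupOf X) = ⊤ := by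
      have := hX.isNilpotent
      refine normalizerCondition_iff_only_full_group_self_normalizing.mp
        (Group.normalizerCondition_of_isNilpotent (G := X)) _ (le_antisymm (fun g hg => ?_) le_normalizer)
      obtain ⟨e, he, c, hc, hec, h2⟩ := hN g (hXO g.2)
        ((mem_normalizer_iff.mp hg ⟨r, hrX⟩).mp hr)
      have h4 : c = 1 := by
        obtain ⟨i, hi⟩ := hX g
        have h5 : Commute e c := by obtain ⟨i, rfl⟩ := hc; exact hec.zpow_right i
        have h6 : (g : G) ^ (l ^ i * k) = 1 := by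
          rw [pow_mul, show (g : G) ^ l ^ i = 1 from congrArg Subtype.val hi, one_pow]
        rw [h2, h5.mul_pow, orderOf_dvd_iff_pow_eq_one.mp ((T.ordR he).mul_left _), one_mul] at h6
        rw [← orderOf_eq_one_iff]
        refine Nat.eq_one_of_dvd_coprimes ?_ (T.rho_ord ▸ orderOf_dvd_of_mem_zpowers hc)
          (orderOf_dvd_of_pow_eq_one h6)
        exact Nat.Coprime.mul_right (Nat.Coprime.pow_right _
          ((Nat.coprime_primes Nat.prime_three hl).mpr hl3.symm))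
          ((Nat.Prime.coprime_iff_not_dvd Nat.prime_three).mpr h3)
      rw [mem_subgroupOf, h2, h4, mul_one]
      exact he
    exact subgroupOf_eq_top.mp h1
  obtain ⟨S, hS⟩ := (hzr.comap_subtype (K := O)).exists_le_sylow
  have hrS : r ∈ (S : Subgroup O).map O.subtype := ⟨⟨r, hrO⟩, hS (mem_zpowers r), rfl⟩
  have hSR := hle _ (S.2.map O.subtype) hrS (map_subtype_le _)
  obtain ⟨K, -, hK⟩ := exists_compl_of_le (map_subtype_le (S : Subgroup O)) (S.2.map O.subtype)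
    (fun Q hQ h1 h2 => by
      have h4 := S.3 (hQ.comap_subtype (K := O)) (fun x hx => h1 ⟨x, hx, rfl⟩)
      intro x hx
      exact ⟨⟨x, h2 hx⟩, by rw [← h4]; exact hx, rfl⟩)
    (fun g hg h1 x hx => by
      obtain ⟨e, he, c, ⟨i, rfl⟩, -, rfl⟩ := hN g hg (hSR (h1 r hrS))
      exact (T.commR he (hSR hx)).mul_left ((hOρ x (map_subtype_le _ hx)).symm.zpow_left i))
  have hKn : ∀ g : G, Commute g ρ → g ∈ normalizer (K : Set G) := fun g hg =>
    mem_normalizer_fintype fun x hx => (hK _).mpr ⟨hmemO _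
      ((hg.mul_left (hOρ x ((hK x).mp hx).1)).mul_left hg.inv_left)
      (by rw [Invol.orderOf_conj]; exact hOo x ((hK x).mp hx).1),
      by rw [Invol.orderOf_conj]; exact ((hK x).mp hx).2⟩
  have hKc : ∀ p : ℕ, p.Prime → p ∣ Nat.card K → p ≠ 2 ∧ p ≠ l := by
    intro p hp h1
    have := Fact.mk hp
    obtain ⟨x, hx, hxp⟩ := SG.exists_orderOf_eq_mem K p h1
    refine ⟨?_, ?_⟩
    · rintro rfl
      have := hOo x ((hK x).mp hx).1
      rw [hxp] at this
      exact absurd this (by decide)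
    · rintro rfl
      exact ((hK x).mp hx).2 (hxp ▸ dvd_rfl)
  have hK2 : (Nat.card K).Coprime 2 :=
    ((Nat.Prime.coprime_iff_not_dvd Nat.prime_two).mpr fun h => (hKc 2 Nat.prime_two h).1 rfl).symm
  have hKl : (Nat.card K).Coprime l :=
    ((Nat.Prime.coprime_iff_not_dvd hl).mpr fun h => (hKc l hl h).2 rfl).symm
  have hur : zpowers u ≤ normalizer ((zpowers r : Subgroup G) : Set G) :=
    zpowers_le.mpr (mem_norm_zpowers (by rw [T.u_inv r hr]; exact inv_mem (mem_zpowers r)))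
  have hfp : ∀ e ∈ R, Commute u e → e = 1 := fun e he h => by
    have h1 := T.u_inv e he
    rw [commute_iff_conj.mp h] at h1
    exact eq_one_of_odd (T.oddR J he) (eq_inv_iff_mul_eq_one.mp h1)
  have hW := PF.frobenius_wielandt (U := zpowers r) (E := zpowers u) (H := K)
    (disjoint_iff.mp (IsPGroup.disjoint_of_ne l 2 hl2 _ _ hzr hzu))
    (fun e he x hx => (mem_normalizer_iff.mp (hur he) x).mp hx)
    (fun e he he1 x hx h => by
      obtain ⟨i, hi, rfl⟩ := SG.exists_pow_eq_of_mem_zpowers he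
      rw [T.u_ord] at hi
      interval_cases i
      · simp at he1
      · exact hfp x (zpowers_le.mpr hr hx) (by simpa [commute_iff_eq] using h))
    (sup_le (zpowers_le.mpr (hKn r hρ.symm)) (zpowers_le.mpr (hKn u T.rho_u.symm)))
    (Cfsg.Agent.S0205.result (Nat.coprime_two_right.mp hK2))
    (Nat.Coprime.coprime_dvd_left (sup_comm (zpowers u) _ ▸ card_sup_dvd_mul_of_le_normalizer hur)
      (by
        rw [Nat.card_zpowers, Nat.card_zpowers, T.u_ord, hj]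
        exact Nat.Coprime.mul_left hK2.symm hKl.symm))
  have h4 : K ⊓ centralizer ((zpowers r ⊔ zpowers u : Subgroup G) : Set G) = zpowers ρ := by
    refine le_antisymm (fun g hg => ?_) (zpowers_le.mpr ⟨(hK ρ).mpr ⟨hmemO ρ (Commute.refl ρ)
      (by rw [T.rho_ord]; decide), ?_⟩, ?_⟩)
    · have h1 : Commute g r := (hg.2 r (mem_sup_left (mem_zpowers r))).symm
      have h2 : Commute u g := hg.2 u (mem_sup_right (mem_zpowers u))
      obtain ⟨e, he, c, hc, -, rfl⟩ := hN g ((hK g).mp hg.1).1 (by rwa [commute_iff_conj.mp h1])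
      obtain ⟨i, rfl⟩ := hc
      have h5 := h2.mul_right (T.rho_u.symm.zpow_right i).inv_right
      rw [mul_inv_cancel_right] at h5
      rw [hfp e he h5, one_mul]
      exact zpow_mem (mem_zpowers ρ) i
    · rw [T.rho_ord, Nat.prime_dvd_prime_iff_eq hl Nat.prime_three]
      exact hl3
    · exact fun x hx => (mem_cent.mp ((sup_le (zpowers_le.mpr (mem_cent.mpr hρ.symm))
        (zpowers_le.mpr (mem_cent.mpr T.rho_u.symm)) : _ ≤ centralizer {ρ}) hx)).eq
  have hml : m.Coprime l := Nat.Coprime.coprime_dvd_left (dvd_pow_self m two_ne_zero)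
    (Nat.coprime_of_mul_modEq_one 1 (by simpa using hmk.of_dvd hlk))
  have h5 : Nat.card (K ⊓ centralizer ((zpowers u : Subgroup G) : Set G) : Subgroup G) = m := by
    obtain ⟨L, h1, h2⟩ := hcompl (centralizer {u} ⊓ centralizer {ρ})
      ⟨mem_cent.mpr (Commute.refl u), mem_cent.mpr T.rho_u.symm⟩ inf_le_right
    have h6 : Nat.card L = m := by omega
    rw [← h6, SG.centralizer_zpowers]
    refine congrArg (fun X : Subgroup G => Nat.card X) (Subgroup.ext fun g => ⟨fun hg => ?_, fun hg => ?_⟩)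
    · exact (h2 g).mpr ⟨⟨hg.2, ((hO g).mp ((hK g).mp hg.1).1).1⟩, ((hO g).mp ((hK g).mp hg.1).1).2⟩
    · refine ⟨(hK g).mpr ⟨(hO g).mpr ⟨((h2 g).mp hg).1.2, ((h2 g).mp hg).2⟩, fun h7 => ?_⟩,
        ((h2 g).mp hg).1.1⟩
      exact hl.one_lt.ne' (Nat.eq_one_of_dvd_coprimes hml
        (h7.trans (h6 ▸ SG.orderOf_dvd_card_of_mem hg)) dvd_rfl)
  have h6 := CF.card_modEq_card_inf_centralizer K _ hzr (zpowers_le.mpr (hKn r hρ.symm))
  have h7 := card_dvd_of_le (inf_le_left : K ⊓ centralizer ((zpowers r : Subgroup G) : Set G) ≤ K)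
  rw [h4, h5, Nat.card_zpowers, Nat.card_zpowers, T.u_ord, T.rho_ord] at hW
  generalize Nat.card (K ⊓ centralizer ((zpowers r : Subgroup G) : Set G) : Subgroup G) = c at *
  have h8 : 3 ^ 2 * c ≡ 1 * c [MOD l] :=
    ((h6.mul_left _).symm.trans (by rw [hW])).trans ((hmk.of_dvd hlk).mul_right c)
  have h9 := Nat.ModEq.cancel_right_of_coprime (hKl.coprime_dvd_left h7).symm h8
  exact hl2 ((Nat.prime_dvd_prime_iff_eq hl Nat.prime_two).mp
    (hl.dvd_of_dvd_pow (n := 3) ((Nat.modEq_iff_dvd' (by norm_num)).mp h9.symm)))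

/-- The centraliser of a non-identity element of `R` is `V × R`. -/
theorem cent_R {r g : G} (hr : r ∈ R) (hr1 : r ≠ 1) (hg : Commute g r) :
    ∃ v ∈ V, ∃ e ∈ R, g = v * e := by
  obtain ⟨v, hv, hv1⟩ := T.exists_ne_one
  refine T.cent v hv hv1 r hr hr1 g (T.nofusion J hr hr1 (B := centralizer {r})
    (fun y hy => mem_cent.mpr (T.comm y hy r hr)) (fun g hg => mem_cent.mp hg)
    (fun g hg hgV => ?_) g (mem_cent.mpr hg) v hv) hg
  have hgr := mem_cent.mp hg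
  have key : ∀ d : G, Odd (orderOf d) → ¬ Commute d r → ¬ ∀ y ∈ V, Commute (d * g) y := by
    intro d hd hdr h
    rcases T.dich _ h with h1 | h1
    · have h2 := (T.comm_of_mem' h1 hr).mul_left hgr.inv_left
      rw [mul_inv_cancel_right] at h2
      exact hdr h2
    · have h2 := h1.2 r hr
      rw [show d * g * r * (d * g)⁻¹ = d * (g * r * g⁻¹) * d⁻¹ by group,
        commute_iff_conj.mp hgr] at h2
      exact hr1 (eq_one_of_inverts hd (T.oddR J hr) h2)
  have hρ : ¬ Commute ρ r := fun h => hr1 (T.eq_one_of_comm_rho J hr h)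
  rcases T.norm_cases J hgV with h | h | h
  · exact h
  · exact absurd h (key _ (by rw [orderOf_inv, T.rho_ord]; decide) (by simpa using hρ))
  · exact absurd h (key _ (by rw [T.rho_ord]; decide) hρ)

end Tor

end CL.WAL
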